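import Cfsg.Agent.H710.BD.AltTwo
import Cfsg.Agent.H352.Dl.PGrp
import Cfsg.Agent.H585.BD.Card

/-!
# `A_n` at the odd primes (helper710, S4932/S4953)

* `n < p ^ 3` : the Sylow subgroups are metabelian (`tame_prime_two`);
* `n ≥ p ^ 3` : three characters in the principal block, the two-row characters `(n - x, x)`, `x = p, 2 p, 3 p`.
-/

set_option autoImplicit false

namespace Cfsg.Agent.H710.BD

open Cfsg Cfsg.Agent Cfsg.Agent.H614 Cfsg.Agent.H133.PB Cfsg.Agent.H589.BD Finset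

universe u

theorem choose_step {n k : ℕ} (h : 3 * k + 2 ≤ n) : 2 * n.choose k ≤ n.choose (k + 1) := by
  have h1 := Nat.choose_succ_right_eq n k
  have h2 : 2 * (k + 1) ≤ n - k := by omega
  have h3 : n.choose k * (2 * (k + 1)) ≤ n.choose k * (n - k) := Nat.mul_le_mul_left _ h2
  rw [← h1] at h3
  have h4 : (2 * n.choose k) * (k + 1) ≤ n.choose (k + 1) * (k + 1) := by
    calc _ = n.choose k * (2 * (k + 1)) := by ring
      _ ≤ _ := h3
  exact Nat.le_of_mul_le_mul_right h4 (by omega)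

theorem choose_steps {n k l : ℕ} (hl : 3 * (k + l) ≤ n + 1) : 2 ^ l * n.choose k ≤ n.choose (k + l) := by
  induction l with
  | zero => simp
  | succ l ih =>
    have h1 := ih (by omega)
    have h2 := choose_step (n := n) (k := k + l) (by omega)
    calc 2 ^ (l + 1) * n.choose k = 2 * (2 ^ l * n.choose k) := by ring
      _ ≤ 2 * n.choose (k + l) := Nat.mul_le_mul_left _ h1
      _ ≤ _ := h2

/-- The degree of `(n - k, k)`. -/
def fd (n k : ℕ) : ℕ := n.choose k - n.choose (k - 1)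

theorem le_fd {n k : ℕ} (hk : 1 ≤ k) (h : 3 * k ≤ n + 1) : n.choose (k - 1) ≤ fd n k := by
  have h1 := choose_step (n := n) (k := k - 1) (by omega)
  rw [show k - 1 + 1 = k by omega] at h1
  unfold fd
  omega

theorem fd_lt {n k l : ℕ} (hk : 1 ≤ k) (hkl : k + 3 ≤ l) (h : 3 * l ≤ n + 1) : 4 * fd n k < fd n l := by
  have h1 := le_fd (n := n) (k := l) (by omega) h
  have h2 := choose_steps (n := n) (k := k) (l := l - 1 - k) (by omega)
  rw [show k + (l - 1 - k) = l - 1 by omega] at h2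
  have h3 : 4 ≤ 2 ^ (l - 1 - k) := by
    calc 4 = 2 ^ 2 := by norm_num
      _ ≤ _ := Nat.pow_le_pow_right (by norm_num) (by omega)
  have h4 : 4 * n.choose k ≤ 2 ^ (l - 1 - k) * n.choose k := Nat.mul_le_mul_right _ h3
  have h5 : fd n k < n.choose k := by
    have h6 : 0 < n.choose (k - 1) := Nat.choose_pos (by omega)
    have h7 : 0 < n.choose k := Nat.choose_pos (by omega)
    unfold fd
    omega
  omega

theorem two_lt_fd {n k : ℕ} (hk : 2 ≤ k) (hn : 3 ≤ n) (h : 3 * k ≤ n + 1) : 2 < fd n k := by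
  have h1 := le_fd (n := n) (k := k) (by omega) h
  have h2 := choose_steps (n := n) (k := 1) (l := k - 2) (by omega)
  rw [show 1 + (k - 2) = k - 1 by omega, Nat.choose_one_right] at h2
  have h3 : 1 ≤ 2 ^ (k - 2) := Nat.one_le_two_pow
  nlinarith

theorem deg_fd {n k : ℕ} (hk : 1 ≤ k) (h : 2 * k ≤ n) : StrictMono (![k, n + 1 - k] : Fin 2 → ℕ) ∧
    ∑ i, (![k, n + 1 - k] : Fin 2 → ℕ) i = n + ∑ i : Fin 2, (i : ℕ) ∧
      FM (Multiset.replicate n 1) (![k, n + 1 - k] : Fin 2 → ℕ) = fd n k := by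
  obtain ⟨j, rfl⟩ : ∃ j, k = j + 1 := ⟨k - 1, by omega⟩
  obtain ⟨m, rfl⟩ : ∃ m, n = j + 1 + m := ⟨n - (j + 1), by omega⟩
  have e1 : j + 1 + m + 1 - (j + 1) = m + 1 := by omega
  rw [e1]
  refine FM_two (by omega) (by omega) ?_
  unfold fd
  rw [show j + 1 - 1 = j by omega]
  have h1 := Nat.choose_mul_factorial_mul_factorial (n := j + 1 + m) (k := j + 1) (by omega)
  have h2 := Nat.choose_mul_factorial_mul_factorial (n := j + 1 + m) (k := j) (by omega)
  rw [show j + 1 + m - (j + 1) = m by omega] at h1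
  rw [show j + 1 + m - j = m + 1 by omega] at h2
  rw [Nat.sub_mul, Nat.mul_sub]
  congr 1
  · rw [Nat.factorial_succ m, ← h1]; ring
  · rw [Nat.factorial_succ j]
    calc _ = ((j + 1 + m).choose j * j.factorial * (m + 1).factorial) * (j + 1) := by ring
      _ = _ := by rw [h2]

theorem exists_fd {n p : ℕ} [hp : Fact p.Prime] {k : ℕ} (hk : 1 ≤ k) (h : 2 * (k * p) ≤ n) :
    ∃ θ : IrrCharacter (alternatingGroup (Fin n)),
      (∀ M : Ideal AlgInt, IsPModular p M → θ ∈ principalBlock M (alternatingGroup (Fin n))) ∧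
      (charDegree (θ : alternatingGroup (Fin n) → ℂ) = fd n (k * p) ∨
        2 * charDegree (θ : alternatingGroup (Fin n) → ℂ) = fd n (k * p)) := by
  have hpp := hp.out.two_le
  have h1 : 1 ≤ k * p := Nat.mul_pos (by omega) (by omega)
  obtain ⟨h2, h3, h4⟩ := deg_fd h1 h
  refine exists_b0 (k := 1) (by omega) h2 h3 (H133.PB.sameCol_of_mod fun j => ?_) h4
  fin_cases j
  · show H133.PB.tr 1 n 0 % p = k * p % p
    have : H133.PB.tr 1 n 0 = 0 := by simp [H133.PB.tr]
    rw [this]; simp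
  · show H133.PB.tr 1 n 1 % p = (n + 1 - k * p) % p
    have : H133.PB.tr 1 n 1 = n + 1 := by simp [H133.PB.tr]
    rw [this]
    have h5 : n + 1 = (n + 1 - k * p) + k * p := by omega
    conv_lhs => rw [h5]
    simp

theorem not_rel {a b f f' : ℕ} (ha : a = f ∨ 2 * a = f) (hb : b = f' ∨ 2 * b = f') (hff : 4 * f < f') (hf : 0 < f) :
    ¬ Rel 2 a b := by
  rintro ⟨d, d', h1, h2, h3⟩
  rcases (Nat.dvd_prime Nat.prime_two).1 h1 with rfl | rfl <;> rcases (Nat.dvd_prime Nat.prime_two).1 h2 with rfl | rfl <;>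
    omega

section

variable {S : Type u} [Group S] [Finite S] [IsSimpleGroup S]

omit [Finite S] [IsSimpleGroup S] in
theorem not_comm_of {n : ℕ} (hn : 5 ≤ n) (e : S ≃* alternatingGroup (Fin n)) : ¬ IsMulCommutative S :=
  fun h => Schreier.Alt.not_comm hn
    ⟨⟨fun x y => e.symm.injective (by rw [map_mul, map_mul]; exact h.is_comm.comm _ _)⟩⟩

/-- `A_n`, `n ≥ 9 p`, at the odd prime `p`. -/
theorem kill_odd {n : ℕ} (e : S ≃* alternatingGroup (Fin n)) {p : ℕ} [hp : Fact p.Prime] (hp3 : 3 ≤ p) (hn : 9 * p ≤ n) :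
    Kill p S := by
  have hO : Nat.card (Out S) = 2 := by
    rw [H934.OutB.card_out_congr e]; exact card_out_alt (by omega) (by omega)
  obtain ⟨α, hαB, hα⟩ := exists_fd (n := n) (p := p) (k := 1) (by omega) (by omega)
  obtain ⟨β, hβB, hβ⟩ := exists_fd (n := n) (p := p) (k := 2) (by omega) (by omega)
  obtain ⟨γ, hγB, hγ⟩ := exists_fd (n := n) (p := p) (k := 3) (by omega) (by omega)
  obtain ⟨α', hα', hα''⟩ := inB0_comp e hαB
  obtain ⟨β', hβ', hβ''⟩ := inB0_comp e hβB
  obtain ⟨γ', hγ', hγ''⟩ := inB0_comp e hγB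
  rw [← hα''] at hα
  rw [← hβ''] at hβ
  rw [← hγ''] at hγ
  have h1 := two_lt_fd (n := n) (k := 1 * p) (by omega) (by omega) (by omega)
  have h2 := fd_lt (n := n) (k := 1 * p) (l := 2 * p) (by omega) (by omega) (by omega)
  have h3 := fd_lt (n := n) (k := 2 * p) (l := 3 * p) (by omega) (by omega) (by omega)
  refine kill_three (not_comm_of (by omega) e) α' β' γ' hα' hβ' hγ' (nt_of_degree _ (by omega)) (nt_of_degree _ (by omega))
    (nt_of_degree _ (by omega)) ?_ ?_ ?_
  · rw [hO]; exact not_rel hα hβ h2 (by omega)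
  · rw [hO]; exact not_rel hα hγ (by omega) (by omega)
  · rw [hO]; exact not_rel hβ hγ h3 (by omega)

/-- `A_n`, `n < p ^ 3`, `n ≠ 6`, at the odd prime `p`. -/
theorem tame_odd {n : ℕ} (hn : 5 ≤ n) (h6 : n ≠ 6) (e : S ≃* alternatingGroup (Fin n)) {p : ℕ} [hp : Fact p.Prime]
    (hp3 : 3 ≤ p) (hp2 : n < p ^ 3) : Tame p S := by
  have hO : Nat.card (Out S) = 2 := by
    rw [H934.OutB.card_out_congr e]; exact card_out_alt hn h6
  refine H585.BD.tame_prime_two (H585.BD.center_simple (not_comm_of hn e)) ?_ ?_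
  · apply H246.Dl.DlLe.of_equiv e
    exact H352.Dl.dlLe_alt hp2
  · intro h
    rw [hO] at h
    have := Nat.le_of_dvd (by norm_num) h
    omega

/-- `A_n` for `n ≥ 8`. -/
theorem row_alt {n : ℕ} (hn : 8 ≤ n) (e : S ≃* alternatingGroup (Fin n)) (hS : SizeOK S) (p : ℕ) (hp : p.Prime) :
    H589.BD.Row p S := by
  have : Fact p.Prime := ⟨hp⟩
  rcases hp.two_le.eq_or_lt with h2 | h2
  · subst h2
    exact Or.inl (kill_two hS hn e)
  · rcases lt_or_ge n (p ^ 3) with h | h
    · exact Or.inr (tame_odd (by omega) (by omega) e (by omega) h)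
    · left
      refine kill_odd e (by omega) ?_
      have h3 : 3 * 3 ≤ p * p := Nat.mul_le_mul h2 h2
      calc 9 * p ≤ (p * p) * p := Nat.mul_le_mul_right _ h3
        _ = p ^ 3 := by ring
        _ ≤ n := h

end

end Cfsg.Agent.H710.BD
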